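import Cfsg.Agent.Lib.Helper4.McL.LeechComp
import Cfsg.Agent.Lib.Helper10.SXTree

set_option autoImplicit false

/-!
# Computing with lists of coordinates: a fast membership test for the Leech lattice, packed lists of vectors
-/

namespace Cfsg.Agent.Lib.Helper29.Co2M

open Cfsg
open Cfsg.Agent.Lib.Helper3.Golay
open Cfsg.Agent.Lib.Helper14.LeechXi
open Cfsg.Agent.Lib.Helper14.Leech
open Cfsg.Agent.Lib.Helper14.LeechMono
open Cfsg.Agent.Lib.Helper4.McL (vecOf vecOf_pt sum_golayPt list_sum_range)

/-! ### membership in the lattice, on lists -/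

/-- the parity of a vector -/
def parL (l : List ℤ) : ℤ := l.getD 23 0 % 2

/-- the mask of the coordinates congruent to the parity plus two modulo four -/
def maskL (l : List ℤ) : ℕ :=
  Nat.ofBits (fun i : Fin 24 => decide ((l.getD i.val 0 - parL l) % 4 = 2))

/-- the sum of the coordinates -/
def sumL (l : List ℤ) : ℤ := ((List.range 24).map fun i => l.getD i 0).sum

/-- a boolean test for membership in the lattice, on lists -/
def chkL (l : List ℤ) : Bool :=
  ((List.range 24).all fun i => decide ((l.getD i 0 - parL l) % 2 = 0)) &&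
    Nat.beq (codeMask (maskL l % 4096)) (maskL l) && decide ((sumL l - 4 * parL l) % 8 = 0)

theorem maskL_lt (l : List ℤ) : maskL l < 2 ^ 24 := Nat.ofBits_lt_two_pow _

theorem testBit_maskL (l : List ℤ) {i : ℕ} (hi : i < 24) :
    (maskL l).testBit i = decide ((l.getD i 0 - parL l) % 4 = 2) := by
  unfold maskL
  rw [Nat.testBit_ofBits_lt _ _ hi]

theorem sum_vecOf (l : List ℤ) : ∑ p, vecOf l p = sumL l := by
  unfold sumL
  rw [sum_golayPt, list_sum_range]
  apply Finset.sum_congr rfl
  intro i hi
  rw [vecOf_pt l (Finset.mem_range.mp hi)]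

theorem chkL_sound (l : List ℤ) (h : chkL l = true) : vecOf l ∈ leechLattice := by
  unfold chkL at h
  rw [Bool.and_eq_true, Bool.and_eq_true, List.all_eq_true, decide_eq_true_eq] at h
  obtain ⟨⟨h1, h2⟩, h3⟩ := h
  have h2' := Nat.eq_of_beq_eq_true h2
  rw [mem_leechLattice_iff, mem_leechSet_iff]
  refine ⟨parL l, wordOf (maskL l), ?_, ?_, ?_⟩
  · exact (wordOf_mem_iff (maskL_lt l)).mpr h2'
  · intro p
    have hp := idx_lt p
    have hi := h1 (idx p) (List.mem_range.mpr hp)
    rw [decide_eq_true_eq] at hi
    rw [wordOf_apply, testBit_maskL l hp]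
    show l.getD (idx p) 0 % 4 = _
    have hm : parL l = l.getD 23 0 % 2 := rfl
    by_cases hc : (l.getD (idx p) 0 - parL l) % 4 = 2
    · simp only [hc, decide_true, if_true]
      rw [show ((1 : ZMod 2).val : ℤ) = 1 from rfl]
      omega
    · simp only [hc, decide_false]
      rw [show (((if false = true then (1 : ZMod 2) else 0)).val : ℤ) = 0 from rfl]
      omega
  · rw [sum_vecOf]
    have hm : parL l = l.getD 23 0 % 2 := rfl
    omega

/-! ### packed lists of vectors -/

/-- the block of 120 bits number `i` -/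
def blkP (P i : ℕ) : ℕ :=
  Nat.land (Nat.shiftRight P (Nat.mul 120 i)) 0xffffffffffffffffffffffffffffff

/-- the coordinate `j` of a block -/
def crd (b j : ℕ) : ℤ :=
  Int.sub (Int.ofNat (Nat.land (Nat.shiftRight b (Nat.mul 5 (Nat.sub 23 j))) 31)) 8

/-- the vector of a block -/
def decP (b : ℕ) : List ℤ := (List.range 24).map (crd b)

/-- the block of a vector -/
def encL (l : List ℤ) : ℕ := l.foldl (fun acc a => acc * 32 + (a + 8).toNat) 0

theorem length_decP (b : ℕ) : (decP b).length = 24 := by
  unfold decP
  rw [List.length_map, List.length_range]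

/-- a function increasing at each step is increasing -/
theorem lt_of_step {f : ℕ → ℕ} {n : ℕ} (h : ∀ i, i + 1 < n → f i < f (i + 1)) :
    ∀ i j, i < j → j < n → f i < f j := by
  intro i j hij
  induction j with
  | zero => omega
  | succ j ih =>
    intro hj
    rcases Nat.lt_succ_iff_lt_or_eq.mp hij with h1 | rfl
    · exact lt_trans (ih h1 (by omega)) (h j hj)
    · exact h i hj

theorem inj_of_step {f : ℕ → ℕ} {n : ℕ} (h : ∀ i, i + 1 < n → f i < f (i + 1)) {i j : ℕ}
    (hi : i < n) (hj : j < n) (hf : f i = f j) : i = j := by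
  rcases Nat.lt_trichotomy i j with hlt | heq | hgt
  · exact absurd hf (Nat.ne_of_lt (lt_of_step h i j hlt hj))
  · exact heq
  · exact absurd hf.symm (Nat.ne_of_lt (lt_of_step h j i hgt hi))

/-! ### packed lists of words -/

/-- the letters of a packed word: fields of 5 bits, each letter plus one, `0` ends the word -/
def decW : ℕ → ℕ → List ℕ
  | 0, _ => []
  | f + 1, v => if v = 0 then [] else Nat.sub (Nat.mod v 32) 1 :: decW f (Nat.div v 32)

/-- the word number `j` of a packed list of words of `W` bits -/
def wordAt (P W j : ℕ) : List ℕ :=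
  decW 24 (Nat.land (Nat.shiftRight P (Nat.mul W j)) (Nat.sub (Nat.shiftLeft 1 W) 1))

/-- the list of the `N` words of a packed list -/
def wordsOf (P W N : ℕ) : List (List ℕ) := (List.range N).map (wordAt P W)

theorem length_wordsOf (P W N : ℕ) : (wordsOf P W N).length = N := by
  unfold wordsOf
  rw [List.length_map, List.length_range]

end Cfsg.Agent.Lib.Helper29.Co2M
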