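import Cfsg.Agent.Lib.Helper29.Co2M.Comp
import Cfsg.Prelude.Def_Spor_Conway

set_option autoImplicit false

/-!
# Fast checks on packed vectors

A vector with coordinates between `-8` and `23` is a block of 24 fields of 5 bits (`decP`).  The checks below use
only arithmetic on natural numbers, which the kernel evaluates quickly; each comes with a soundness lemma about the
list functions `spL`, `xiL` of helper4.
-/

namespace Cfsg.Agent.Lib.Helper29.Co2M

open Cfsg
open Cfsg.Agent.Lib.Helper3.Golay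
open Cfsg.Agent.Lib.Helper14.LeechXi
open Cfsg.Agent.Lib.Helper14.Leech
open Cfsg.Agent.Lib.Helper14.LeechMono
open Cfsg.Agent.Lib.Helper10.SX
open Cfsg.Agent.Lib.Helper4.McL (vecOf vecOf_pt sum_golayPt list_sum_range spL xiL tabL tsL
  sqNorm_vecOf dotInt_vecOf)

/-- the field `j` of a block: the coordinate plus 8 -/
def fldN (b j : ℕ) : ℕ := Nat.land (Nat.shiftRight b (Nat.mul 5 (Nat.sub 23 j))) 31

theorem crd_eq (b j : ℕ) : crd b j = (fldN b j : ℤ) - 8 := rfl

theorem getD_decP (b : ℕ) {j : ℕ} (hj : j < 24) : (decP b).getD j 0 = (fldN b j : ℤ) - 8 := by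
  unfold decP
  rw [List.getD_eq_getElem _ _ (by rw [List.length_map, List.length_range]; exact hj),
    List.getElem_map, List.getElem_range, crd_eq]

/-- a sum over `i < k` that the kernel evaluates quickly -/
def sumLt : ℕ → (ℕ → ℕ) → ℕ
  | 0, _ => 0
  | k + 1, f => Nat.add (f k) (sumLt k f)

theorem sumLt_eq (k : ℕ) (f : ℕ → ℕ) : sumLt k f = ∑ i ∈ Finset.range k, f i := by
  induction k with
  | zero => rfl
  | succ k ih =>
    show Nat.add (f k) (sumLt k f) = _
    rw [Finset.sum_range_succ, ← ih]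
    exact Nat.add_comm _ _

/-- apply a Boolean function to a number after evaluating the number -/
def forceB (y : ℕ) (f : ℕ → Bool) : Bool :=
  Nat.rec (motive := fun _ => Bool) (f 0) (fun k _ => f (Nat.succ k)) y

theorem forceB_eq (y : ℕ) (f : ℕ → Bool) : forceB y f = f y := by
  cases y <;> rfl

/-! ### blocks are determined by their vectors -/

theorem testBit_fldN (b j r : ℕ) (hr : r < 5) :
    (fldN b j).testBit r = b.testBit (5 * (23 - j) + r) := by
  unfold fldN
  show ((b >>> (5 * (23 - j))) &&& 31).testBit r = _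
  rw [Nat.testBit_and, Nat.testBit_shiftRight]
  have h31 : (31 : ℕ).testBit r = true := by
    interval_cases r <;> rfl
  rw [h31, Bool.and_true]

theorem eq_of_decP_eq {b b' : ℕ} (hb : b < 2 ^ 120) (hb' : b' < 2 ^ 120) (h : decP b = decP b') :
    b = b' := by
  have hf : ∀ j < 24, fldN b j = fldN b' j := by
    intro j hj
    have h1 := getD_decP b hj
    rw [h, getD_decP b' hj] at h1
    omega
  apply Nat.eq_of_testBit_eq
  intro k
  by_cases hk : k < 120
  · have e : k = 5 * (23 - (23 - k / 5)) + k % 5 := by omega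
    rw [e, ← testBit_fldN b _ _ (Nat.mod_lt _ (by norm_num)),
      ← testBit_fldN b' _ _ (Nat.mod_lt _ (by norm_num)), hf _ (by omega)]
  · push Not at hk
    rw [Nat.testBit_lt_two_pow (lt_of_lt_of_le hb (Nat.pow_le_pow_right (by norm_num) hk)),
      Nat.testBit_lt_two_pow (lt_of_lt_of_le hb' (Nat.pow_le_pow_right (by norm_num) hk))]

theorem blkP_lt (P i : ℕ) : blkP P i < 2 ^ 120 := by
  unfold blkP
  exact lt_of_le_of_lt Nat.and_le_right (by norm_num)

/-! ### membership in the lattice, norm, inner product with `(4, 4, 0^22)` -/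

/-- the parity of a block -/
def parN (b : ℕ) : ℕ := Nat.mod (fldN b 23) 2

/-- the mask of the coordinates congruent to the parity plus two modulo four -/
def maskN (b : ℕ) : ℕ :=
  Nat.ofBits (fun i : Fin 24 => Nat.beq (Nat.mod (Nat.sub (Nat.add (fldN b i.val) 4) (parN b)) 4) 2)

/-- the square of a coordinate from its field -/
def sqd (F : ℕ) : ℕ :=
  if Nat.ble 8 F then Nat.mul (Nat.sub F 8) (Nat.sub F 8) else Nat.mul (Nat.sub 8 F) (Nat.sub 8 F)

theorem sqd_eq (F : ℕ) : (sqd F : ℤ) = ((F : ℤ) - 8) ^ 2 := by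
  unfold sqd
  by_cases h : 8 ≤ F
  · rw [if_pos (Nat.ble_eq.mpr h)]
    show (((F - 8) * (F - 8) : ℕ) : ℤ) = _
    rw [Nat.cast_mul, Nat.cast_sub h]
    push_cast
    ring
  · rw [if_neg (fun hh => h (Nat.ble_eq.mp hh))]
    push Not at h
    show (((8 - F) * (8 - F) : ℕ) : ℤ) = _
    rw [Nat.cast_mul, Nat.cast_sub h.le]
    push_cast
    ring

/-- the test of a block: in the lattice, of norm 32, of inner product `-16` with `(4, 4, 0^22)` -/
def okN (b : ℕ) : Bool :=
  allLt 24 (fun j => Nat.beq (Nat.mod (fldN b j) 2) (parN b)) &&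
    Nat.beq (codeMask (Nat.mod (maskN b) 4096)) (maskN b) &&
    Nat.beq (Nat.mod (Nat.add (sumLt 24 (fldN b)) (Nat.mul 4 (parN b))) 8) 0 &&
    Nat.beq (sumLt 24 (fun j => sqd (fldN b j))) 32 &&
    Nat.beq (Nat.add (fldN b 23) (fldN b 0)) 12

theorem maskN_lt (b : ℕ) : maskN b < 2 ^ 24 := Nat.ofBits_lt_two_pow _

theorem testBit_maskN (b : ℕ) {i : ℕ} (hi : i < 24) :
    (maskN b).testBit i = Nat.beq ((fldN b i + 4 - parN b) % 4) 2 := by
  unfold maskN
  rw [Nat.testBit_ofBits_lt _ _ hi]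
  rfl

theorem sum_vecOf_decP (b : ℕ) :
    ∑ p, vecOf (decP b) p = ((sumLt 24 (fldN b) : ℕ) : ℤ) - 192 := by
  rw [sum_vecOf]
  unfold sumL
  rw [list_sum_range, sumLt_eq, Nat.cast_sum]
  have : ∀ i ∈ Finset.range 24, (decP b).getD i 0 = ((fldN b i : ℕ) : ℤ) - 8 :=
    fun i hi => getD_decP b (Finset.mem_range.mp hi)
  rw [Finset.sum_congr rfl this, Finset.sum_sub_distrib, Finset.sum_const, Finset.card_range]
  norm_num

theorem sqNorm_decP (b : ℕ) :
    sqNorm (vecOf (decP b)) = ((sumLt 24 (fun j => sqd (fldN b j)) : ℕ) : ℤ) := by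
  rw [sqNorm_vecOf, list_sum_range, sumLt_eq, Nat.cast_sum]
  apply Finset.sum_congr rfl
  intro i hi
  rw [getD_decP b (Finset.mem_range.mp hi), sqd_eq]

theorem dot_decP (b : ℕ) :
    dotInt Spor.vecU (vecOf (decP b)) = 4 * ((fldN b 0 : ℤ) - 8) + 4 * ((fldN b 23 : ℤ) - 8) := by
  have hU : Spor.vecU = vecOf [4, 0, 0, 0, 0, 0, 0, 0, 0, 0, 0, 0, 0, 0, 0, 0, 0, 0, 0, 0, 0, 0, 0, 4] := by
    funext p
    revert p
    decide
  rw [hU, dotInt_vecOf, list_sum_range]
  have : ∀ i ∈ Finset.range 24, (decP b).getD i 0 = ((fldN b i : ℕ) : ℤ) - 8 :=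
    fun i hi => getD_decP b (Finset.mem_range.mp hi)
  rw [Finset.sum_congr rfl (fun i hi => by rw [this i hi])]
  simp only [Finset.sum_range_succ, Finset.sum_range_zero, List.getD_cons_zero, List.getD_cons_succ]
  ring

theorem okN_sound {b : ℕ} (h : okN b = true) :
    vecOf (decP b) ∈ leechLattice ∧ sqNorm (vecOf (decP b)) = 32 ∧
      dotInt Spor.vecU (vecOf (decP b)) = -16 := by
  unfold okN at h
  simp only [Bool.and_eq_true] at h
  obtain ⟨⟨⟨⟨h1, h2⟩, h3⟩, h4⟩, h5⟩ := h
  rw [allLt_iff] at h1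
  have h2' : codeMask (maskN b % 4096) = maskN b := Nat.eq_of_beq_eq_true h2
  have h3' : (sumLt 24 (fldN b) + 4 * parN b) % 8 = 0 := Nat.eq_of_beq_eq_true h3
  have h4' : sumLt 24 (fun j => sqd (fldN b j)) = 32 := Nat.eq_of_beq_eq_true h4
  have h5' : fldN b 23 + fldN b 0 = 12 := Nat.eq_of_beq_eq_true h5
  have hpar : parN b < 2 := Nat.mod_lt _ (by norm_num)
  refine ⟨?_, ?_, ?_⟩
  · rw [mem_leechLattice_iff, mem_leechSet_iff]
    refine ⟨(parN b : ℤ), wordOf (maskN b), ?_, ?_, ?_⟩
    · exact (wordOf_mem_iff (maskN_lt b)).mpr h2'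
    · intro p
      have hp := idx_lt p
      have hi' : fldN b (idx p) % 2 = parN b := Nat.eq_of_beq_eq_true (h1 (idx p) hp)
      rw [wordOf_apply, testBit_maskN b hp]
      show (decP b).getD (idx p) 0 % 4 = _
      rw [getD_decP b hp]
      by_cases hc : (fldN b (idx p) + 4 - parN b) % 4 = 2
      · have hb : Nat.beq ((fldN b (idx p) + 4 - parN b) % 4) 2 = true := by rw [hc]; rfl
        rw [hb, if_pos rfl]
        rw [show ((1 : ZMod 2).val : ℤ) = 1 from rfl]
        omega
      · have hb : Nat.beq ((fldN b (idx p) + 4 - parN b) % 4) 2 = false := by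
          rw [← Bool.not_eq_true]
          exact fun hh => hc (Nat.eq_of_beq_eq_true hh)
        rw [hb, if_neg Bool.false_ne_true]
        rw [show ((0 : ZMod 2).val : ℤ) = 0 from rfl]
        omega
    · rw [sum_vecOf_decP]
      omega
  · rw [sqNorm_decP, h4']
    norm_num
  · rw [dot_decP]
    omega

/-! ### signed permutations -/

/-- the entry `i` of a packed table -/
def tblAt (t i : ℕ) : ℕ := Nat.land (Nat.shiftRight t (Nat.mul 5 i)) 31

/-- the block `b'` is the image of the block `b` under the signed permutation with packed inverse table `t` and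
mask `c` -/
def spChk (t c b b' : ℕ) : Bool :=
  allLt 24 fun i => forceB (tblAt t i) fun k =>
    if Nat.testBit c i then Nat.beq (Nat.add (fldN b' i) (fldN b k)) 16
    else Nat.beq (fldN b' i) (fldN b k)

theorem spChk_sound {T' : List ℕ} {t c b b' : ℕ}
    (ht : ∀ i < 24, tblAt t i = T'.getD i 0 ∧ T'.getD i 0 < 24) (h : spChk t c b b' = true) :
    spL T' c (decP b) = decP b' := by
  unfold spL tabL decP
  apply List.map_congr_left
  intro i hi
  have hi' : i < 24 := List.mem_range.mp hi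
  unfold spChk at h
  rw [allLt_iff] at h
  have h1 := h i hi'
  rw [forceB_eq] at h1
  obtain ⟨e1, e2⟩ := ht i hi'
  rw [e1] at h1
  have hd := getD_decP b e2
  unfold decP at hd
  rw [hd, crd_eq]
  by_cases hc : c.testBit i = true
  · rw [if_pos hc]
    rw [if_pos hc] at h1
    have h2 : fldN b' i + fldN b (T'.getD i 0) = 16 := Nat.eq_of_beq_eq_true h1
    omega
  · rw [if_neg hc]
    rw [if_neg hc] at h1
    have h2 : fldN b' i = fldN b (T'.getD i 0) := Nat.eq_of_beq_eq_true h1
    omega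

/-! ### the map `ξ` -/

/-- the table of the tetrads, packed -/
def tetP : ℕ := 0x9d70aa5496c6ca200

/-- the tetrad of a coordinate -/
def tetN (j : ℕ) : ℕ := Nat.land (Nat.shiftRight tetP (Nat.mul 3 j)) 7

theorem tetN_eq : ∀ j < 24, tetN j = tetL.getD j 0 ∧ tetL.getD j 0 < 6 := by decide

/-- the sum of the fields of a tetrad -/
def tsN (b : ℕ) : ℕ → ℕ
  | 0 => Nat.add (Nat.add (fldN b 0) (fldN b 1)) (Nat.add (fldN b 2) (fldN b 23))
  | 1 => Nat.add (Nat.add (fldN b 3) (fldN b 5)) (Nat.add (fldN b 14) (fldN b 17))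
  | 2 => Nat.add (Nat.add (fldN b 4) (fldN b 13)) (Nat.add (fldN b 16) (fldN b 22))
  | 3 => Nat.add (Nat.add (fldN b 6) (fldN b 7)) (Nat.add (fldN b 19) (fldN b 21))
  | 4 => Nat.add (Nat.add (fldN b 8) (fldN b 11)) (Nat.add (fldN b 12) (fldN b 18))
  | _ => Nat.add (Nat.add (fldN b 9) (fldN b 10)) (Nat.add (fldN b 15) (fldN b 20))

theorem tsL_expand (l : List ℤ) (t : ℕ) :
    tsL l t = ∑ k ∈ Finset.range 24, if tetL.getD k 0 = t then l.getD k 0 else 0 := by
  unfold tsL
  rw [list_sum_range]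

theorem tsN_spec (b : ℕ) : ∀ t < 6, tsL (decP b) t = (tsN b t : ℤ) - 32 := by
  intro t ht
  rw [tsL_expand]
  have : ∀ k ∈ Finset.range 24, (if tetL.getD k 0 = t then (decP b).getD k 0 else 0) =
      if tetL.getD k 0 = t then ((fldN b k : ℕ) : ℤ) - 8 else 0 := by
    intro k hk
    rw [getD_decP b (Finset.mem_range.mp hk)]
  rw [Finset.sum_congr rfl this]
  interval_cases t <;>
  · simp only [Finset.sum_range_succ, Finset.sum_range_zero, tetL, List.getD_cons_zero,
      List.getD_cons_succ]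
    unfold tsN
    norm_num
    show _ = (((_ + _) + (_ + _) : ℕ) : ℤ) - 32
    push_cast
    ring

/-- the block `b'` is the image of the block `b` under `ξ` -/
def xiChk (b b' : ℕ) : Bool :=
  allLt 6 (fun t => Nat.beq (Nat.mod (tsN b t) 2) 0) &&
    allLt 24 fun j => forceB (tetN j) fun t => forceB (Nat.div (tsN b t) 2) fun h =>
      if Nat.beq t 0 then Nat.beq (Nat.add (fldN b' j) (fldN b j)) h
      else Nat.beq (Nat.add (fldN b' j) h) (Nat.add (fldN b j) 16)

theorem xiChk_sound {b b' : ℕ} (h : xiChk b b' = true) : xiL (decP b) = decP b' := by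
  unfold xiChk at h
  rw [Bool.and_eq_true, allLt_iff, allLt_iff] at h
  obtain ⟨hev, h⟩ := h
  unfold xiL tabL
  conv_rhs => unfold decP
  apply List.map_congr_left
  intro j hj
  have hj' : j < 24 := List.mem_range.mp hj
  have h1 := h j hj'
  rw [forceB_eq, forceB_eq] at h1
  obtain ⟨e1, e2⟩ := tetN_eq j hj'
  rw [e1] at h1
  have hev' : tsN b (tetL.getD j 0) % 2 = 0 := Nat.eq_of_beq_eq_true (hev _ e2)
  rw [getD_decP b hj', tsN_spec b _ e2, crd_eq]
  by_cases hc : tetL.getD j 0 = 0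
  · rw [if_pos hc]
    have : Nat.beq (tetL.getD j 0) 0 = true := by rw [hc]; rfl
    rw [if_pos this] at h1
    have h2 : fldN b' j + fldN b j = tsN b (tetL.getD j 0) / 2 := Nat.eq_of_beq_eq_true h1
    omega
  · rw [if_neg hc]
    have : ¬ (Nat.beq (tetL.getD j 0) 0 = true) := fun hh => hc (Nat.eq_of_beq_eq_true hh)
    rw [if_neg this] at h1
    have h2 : fldN b' j + tsN b (tetL.getD j 0) / 2 = fldN b j + 16 := Nat.eq_of_beq_eq_true h1
    omega

end Cfsg.Agent.Lib.Helper29.Co2M
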