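import Cfsg.Agent.Lib.Helper29.Co2M.Fast
import Cfsg.Agent.Lib.Helper29.Co2M.Data

set_option autoImplicit false

/-!
# Two explicit elements of the Conway group `Co₂` of the definitions

`gA` is a monomial map; `gB = m₁ ξ` with a monomial map `m₁` and the map `ξ` of helper14.  Both fix the
vector `(4, 4, 0^22)`.
-/

namespace Cfsg.Agent.Lib.Helper29.Co2M

open Cfsg
open Cfsg.Agent.Lib.Helper3.Golay
open Cfsg.Agent.Lib.Helper14.LeechXi
open Cfsg.Agent.Lib.Helper14.LeechMono
open Cfsg.Agent.Lib.Helper4.McL (vecOf spL xiL monoT monoT_mem monoT_apply xiPerm_apply')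

theorem hTA : okInv TA TAi = true := by decide
theorem hTA' : okInv TAi TA = true := by decide
theorem hTAc : codeOK TA = true := by decide
theorem hT1 : okInv T1 T1i = true := by decide
theorem hT1' : okInv T1i T1 = true := by decide
theorem hT1c : codeOK T1 = true := by decide

/-- the first generator -/
noncomputable def gA : Equiv.Perm ↥leechLattice :=
  monoT TA TAi hTA hTA' hTAc cA0 (by decide) (by decide)

/-- the monomial map `m₁` -/
noncomputable def gM1 : Equiv.Perm ↥leechLattice :=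
  monoT T1 T1i hT1 hT1' hT1c c1 (by decide) (by decide)

/-- the second generator -/
noncomputable def gB : Equiv.Perm ↥leechLattice := gM1 * xiPerm

/-- the first generator on lists -/
def gAL (l : List ℤ) : List ℤ := spL TAi cA0 l

/-- the second generator on lists -/
def gBL (l : List ℤ) : List ℤ := spL T1i c1 (xiL l)

theorem gA_mem_Co0 : gA ∈ Co0 := monoT_mem _ _ _ _ _ _ _ _

theorem gB_mem_Co0 : gB ∈ Co0 := Co0.mul_mem (monoT_mem _ _ _ _ _ _ _ _) xiPerm_mem

theorem gA_apply (v : ↥leechLattice) (l : List ℤ) (hv : (v : GolayPt → ℤ) = vecOf l) :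
    ((gA v : ↥leechLattice) : GolayPt → ℤ) = vecOf (gAL l) :=
  monoT_apply _ _ _ _ _ _ _ _ v l hv

theorem gB_apply (v : ↥leechLattice) (l : List ℤ) (hv : (v : GolayPt → ℤ) = vecOf l) :
    ((gB v : ↥leechLattice) : GolayPt → ℤ) = vecOf (gBL l) := by
  unfold gB gBL
  rw [Equiv.Perm.mul_apply]
  have h4 := xiPerm_apply' _ _ hv
  exact monoT_apply T1 T1i hT1 hT1' hT1c c1 (by decide) (by decide) _ _ h4

/-! ### the fixed vector -/

/-- the coordinates of `(4, 4, 0^22)` -/
def lU : List ℤ := [4, 0, 0, 0, 0, 0, 0, 0, 0, 0, 0, 0, 0, 0, 0, 0, 0, 0, 0, 0, 0, 0, 0, 4]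

theorem vecU_eq : Spor.vecU = vecOf lU := by
  funext p
  revert p
  decide

theorem leechU_eq : ((Spor.leechU : ↥leechLattice) : GolayPt → ℤ) = vecOf lU := vecU_eq

theorem gAL_lU : gAL lU = lU := by decide +kernel
theorem gBL_lU : gBL lU = lU := by decide +kernel

theorem mem_Co2_iff (g : Equiv.Perm ↥leechLattice) :
    g ∈ Spor.Co2 ↔ g ∈ Co0 ∧ g Spor.leechU = Spor.leechU := by
  unfold Spor.Co2
  rw [Subgroup.mem_inf, MulAction.mem_stabilizer_iff]
  rfl

theorem gA_mem : gA ∈ Spor.Co2 := by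
  rw [mem_Co2_iff]
  refine ⟨gA_mem_Co0, Subtype.ext ?_⟩
  rw [gA_apply _ _ leechU_eq, gAL_lU, leechU_eq]

theorem gB_mem : gB ∈ Spor.Co2 := by
  rw [mem_Co2_iff]
  refine ⟨gB_mem_Co0, Subtype.ext ?_⟩
  rw [gB_apply _ _ leechU_eq, gBL_lU, leechU_eq]

/-! ### the packed tables -/

theorem tAN_eq : ∀ i < 24, tblAt tAN i = TAi.getD i 0 ∧ TAi.getD i 0 < 24 := by decide

theorem t1N_eq : ∀ i < 24, tblAt t1N i = T1i.getD i 0 ∧ T1i.getD i 0 < 24 := by decide

end Cfsg.Agent.Lib.Helper29.Co2M
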