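import Cfsg.Agent.Lib.Helper29.Co2M.Word
import Cfsg.Agent.S0402

set_option autoImplicit false

/-!
# The Conway group `Co₂` of the definitions is the group `P` on 4600 points
-/

namespace Cfsg.Agent.Lib.Helper29.Co2M

open Cfsg
open Cfsg.Agent.Lib.Helper10.SX
open Cfsg.Agent.Lib.Helper4.McL (ChainOK chain_card_le chainSet chainSet_card)
open MulAction

noncomputable section

/-- the group of the definitions as a stabiliser inside `Co0` -/
def co2EquivStab : ↥Spor.Co2 ≃ ↥(stabilizer ↥Co0 Spor.leechU) where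
  toFun g := ⟨⟨g.1, ((mem_Co2_iff g.1).mp g.2).1⟩, by
    show g.1 Spor.leechU = Spor.leechU
    exact ((mem_Co2_iff g.1).mp g.2).2⟩
  invFun g := ⟨g.1.1, (mem_Co2_iff g.1.1).mpr ⟨g.1.2, g.2⟩⟩
  left_inv g := rfl
  right_inv g := rfl

theorem card_Co2 : Nat.card ↥Spor.Co2 = NCo2 := by
  rw [Nat.card_congr co2EquivStab]
  have h := Cfsg.Agent.S0402.card_stab32 Spor.leechU normU
  show Nat.card ↥(stabilizer ↥Co0 Spor.leechU) = 42305421312000
  omega

instance finite_Co2 : Finite ↥Spor.Co2 :=
  Nat.finite_of_card_ne_zero (by rw [card_Co2]; norm_num)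

theorem P_le_range : P ≤ psi.range := by
  apply grp_le_iff.mpr
  intro c hc
  simp only [List.mem_cons, List.not_mem_nil, or_false] at hc
  rcases hc with rfl | rfl
  · exact ⟨mA, psi_mA⟩
  · exact ⟨mB, psi_mB⟩

theorem card_range_le : Nat.card ↥psi.range ≤ NCo2 := by
  rw [← card_Co2]
  exact Nat.le_of_dvd Nat.card_pos (Subgroup.card_range_dvd psi)

theorem chain_le : NCo2 * Nat.card ↥Sbase ≤ Nat.card ↥P := by
  have h := chain_card_le Sbase (lvls.map toLvl) (chainB_sound lvls chain_ok) Sbase_fix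
  rwa [chain_prod] at h

theorem card_P_le : Nat.card ↥P ≤ NCo2 :=
  le_trans (Subgroup.card_le_of_le P_le_range) card_range_le

theorem card_P : Nat.card ↥P = NCo2 := by
  apply le_antisymm card_P_le
  have h := chain_le
  have h1 : 1 ≤ Nat.card ↥Sbase := Nat.card_pos
  calc NCo2 = NCo2 * 1 := (mul_one _).symm
    _ ≤ NCo2 * Nat.card ↥Sbase := Nat.mul_le_mul_left _ h1
    _ ≤ Nat.card ↥P := h

theorem Sbase_eq_bot : Sbase = ⊥ := by
  apply Subgroup.eq_bot_of_card_le
  have h := chain_le
  rw [card_P] at h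
  have : NCo2 * Nat.card ↥Sbase ≤ NCo2 * 1 := by rwa [mul_one]
  exact Nat.le_of_mul_le_mul_left this (by norm_num)

theorem range_eq : psi.range = P := by
  symm
  apply Subgroup.eq_of_le_of_card_ge P_le_range
  rw [card_P]
  exact card_range_le

theorem psi_injective : Function.Injective psi := by
  rw [← MonoidHom.ker_eq_bot_iff]
  apply Subgroup.eq_bot_of_card_le
  have h1 := Subgroup.card_mul_index psi.ker
  rw [Subgroup.index_ker, range_eq, card_P, card_Co2] at h1
  have : Nat.card ↥psi.ker * NCo2 = 1 * NCo2 := by rw [h1, one_mul]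
  exact le_of_eq (Nat.eq_of_mul_eq_mul_right (by norm_num) this)

/-- the Conway group `Co₂` of the definitions is isomorphic to the group `P` on 4600 points -/
def co2Iso : ↥Spor.Co2 ≃* ↥P :=
  (MonoidHom.ofInjective psi_injective).trans (MulEquiv.subgroupCongr range_eq)

theorem co2Iso_apply (g : ↥Spor.Co2) : ((co2Iso g : ↥P) : Equiv.Perm (Fin 4600)) = psi g := rfl

instance finite_P : Finite ↥P := Nat.finite_of_card_ne_zero (by rw [card_P]; norm_num)

/-- an element of `P` fixing the five base points is the identity -/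
theorem rigid (g : ↥P) (h : ∀ b ∈ bs, g • fpt b = fpt b) : g = 1 := by
  have : g ∈ Sbase := h
  rw [Sbase_eq_bot] at this
  exact Subgroup.mem_bot.mp this

end

end Cfsg.Agent.Lib.Helper29.Co2M
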